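import Mathlib.LinearAlgebra.Matrix.Charpoly.Coeff
import Mathlib.LinearAlgebra.Matrix.Block
import Mathlib.LinearAlgebra.Eigenspace.Triangularizable
import Mathlib.LinearAlgebra.Basis.Fin
import Mathlib.Data.Matrix.Block
import Mathlib.LinearAlgebra.Dual.Lemmas

set_option autoImplicit false

/-!
# Matrix facts for reduced norms
-/

universe u v

open Matrix Module

namespace GrothLib.RedNorm

/-- Over an algebraically closed field every endomorphism is triangular in some basis. -/
theorem exists_flag {L : Type u} [Field L] [IsAlgClosed L] :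
    ∀ (n : ℕ) (V : Type u) [AddCommGroup V] [Module L V] [FiniteDimensional L V],
      finrank L V = n → ∀ f : V →ₗ[L] V,
        ∃ b : Basis (Fin n) L V, ∀ j, f (b j) ∈ Submodule.span L (b '' {i | i ≤ j}) := by
  intro n
  induction n with
  | zero =>
    intro V _ _ _ h f
    exact ⟨(finBasisOfFinrankEq L V h), fun j => j.elim0⟩
  | succ n ih =>
    intro V _ _ _ h f
    have : Nontrivial V := Module.nontrivial_of_finrank_pos (R := L) (by omega)
    obtain ⟨μ, hμ⟩ := Module.End.exists_eigenvalue (f.dualMap : Module.End L (Dual L V))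
    obtain ⟨φ, hφ⟩ := hμ.exists_hasEigenvector
    have hinv : ∀ x, x ∈ LinearMap.ker φ → f x ∈ LinearMap.ker φ := fun x hx => by
      have h1 : φ (f x) = μ * φ x := LinearMap.congr_fun hφ.apply_eq_smul x
      rw [LinearMap.mem_ker] at hx ⊢
      rw [h1, hx, mul_zero]
    obtain ⟨v, hv⟩ : ∃ v, φ v = 1 := by
      obtain ⟨w, hw⟩ : ∃ w, φ w ≠ 0 := by
        by_contra hc
        push Not at hc
        exact hφ.2 (LinearMap.ext hc)
      exact ⟨(φ w)⁻¹ • w, by simp [hw]⟩
    have hW : finrank L (LinearMap.ker φ) = n := by
      have hr : LinearMap.range φ = ⊤ :=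
        LinearMap.range_eq_top.2 fun c => ⟨c • v, by simp [hv]⟩
      have h1 := φ.finrank_range_add_finrank_ker
      rw [hr, finrank_top, finrank_self, h] at h1
      omega
    obtain ⟨bW, hbW⟩ := ih (LinearMap.ker φ) hW (f.restrict hinv)
    let b := Basis.mkFinSnoc bW v
      (fun c x hx hc => by
        have := congr_arg φ hc
        rw [map_add, map_smul, hv, LinearMap.mem_ker.1 hx] at this
        simpa using this)
      (fun z => ⟨-φ z, by simp [hv]⟩)
    have hb : ∀ i : Fin n, b i.castSucc = (bW i : V) := fun i => by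
      simp [b]
    refine ⟨b, fun j => ?_⟩
    refine Fin.lastCases ?_ (fun j => ?_) j
    · have : {i : Fin (n + 1) | i ≤ Fin.last n} = Set.univ := by
        ext i; simp [Fin.le_last]
      rw [this, Set.image_univ, b.span_eq]
      trivial
    · have h1 := Submodule.mem_map_of_mem (f := (LinearMap.ker φ).subtype) (hbW j)
      rw [Submodule.map_span] at h1
      rw [hb]
      refine Submodule.span_mono ?_ h1
      rintro _ ⟨_, ⟨i, hi, rfl⟩, rfl⟩
      exact ⟨i.castSucc, by simpa using hi, hb i⟩

/-- Every square matrix over an algebraically closed field is conjugate to a triangular one. -/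
theorem exists_triangular {L : Type u} [Field L] [IsAlgClosed L] (n : ℕ)
    (M : Matrix (Fin n) (Fin n) L) :
    ∃ P Q T : Matrix (Fin n) (Fin n) L, P * Q = 1 ∧ Q * P = 1 ∧ T.BlockTriangular id ∧
      M = P * T * Q := by
  obtain ⟨b, hb⟩ := exists_flag n (Fin n → L) (by simp) (Matrix.toLin' M)
  let e := Pi.basisFun L (Fin n)
  refine ⟨e.toMatrix b, b.toMatrix e, LinearMap.toMatrix b b (Matrix.toLin' M),
    e.toMatrix_mul_toMatrix_flip b, b.toMatrix_mul_toMatrix_flip e, fun i j hij => ?_, ?_⟩
  · rw [LinearMap.toMatrix_apply]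
    by_contra hne
    have h1 := b.mem_span_image.1 (hb j)
    exact absurd (h1 (Finsupp.mem_support_iff.2 hne)) (not_le.2 hij)
  · rw [basis_toMatrix_mul_linearMap_toMatrix_mul_basis_toMatrix, LinearMap.toMatrix_eq_toMatrix',
      LinearMap.toMatrix'_toLin']

theorem triangular_mul_diag {R : Type u} [CommRing R] {n : ℕ} {A B : Matrix (Fin n) (Fin n) R}
    (hA : A.BlockTriangular id) (hB : B.BlockTriangular id) (i : Fin n) :
    (A * B) i i = A i i * B i i := by
  rw [Matrix.mul_apply]
  refine Finset.sum_eq_single i (fun j _ hj => ?_) (by simp)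
  rcases lt_or_gt_of_ne hj with h | h
  · rw [hA (show id j < id i from h), zero_mul]
  · rw [hB (show id i < id j from h), mul_zero]

theorem trace_pow_triangular {R : Type u} [CommRing R] {n : ℕ} {A : Matrix (Fin n) (Fin n) R}
    (hA : A.BlockTriangular id) (m : ℕ) : (A ^ m).trace = ∑ i, A i i ^ m := by
  suffices h : (A ^ m).BlockTriangular id ∧ ∀ i, (A ^ m) i i = A i i ^ m by
    simp [Matrix.trace, h.2]
  induction m with
  | zero => simp [Matrix.blockTriangular_one]
  | succ m ih =>
    rw [pow_succ]
    exact ⟨ih.1.mul hA, fun i => by rw [triangular_mul_diag ih.1 hA, ih.2, pow_succ]⟩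

theorem charpoly_blockDiagonal {R : Type u} [CommRing R] {m o : Type*} [Fintype m] [DecidableEq m]
    [Fintype o] [DecidableEq o] (M : o → Matrix m m R) :
    (Matrix.blockDiagonal M).charpoly = ∏ t, (M t).charpoly := by
  have h : (Matrix.blockDiagonal M).charmatrix = Matrix.blockDiagonal fun t => (M t).charmatrix := by
    ext ⟨i, a⟩ ⟨j, c⟩
    simp only [Matrix.charmatrix_apply, Matrix.blockDiagonal_apply, Matrix.diagonal_apply,
      Prod.mk.injEq]
    by_cases hac : a = c
    · subst hac; simp
    · simp [hac]
  rw [Matrix.charpoly, h, Matrix.det_blockDiagonal]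
  rfl

theorem det_one_add_of_sq_eq_zero {L : Type u} [Field L] {m : Type*} [Fintype m] [DecidableEq m]
    {X : Matrix m m L} (h : X * X = 0) : (1 + X).det = 1 := by
  have h1 : ((-X).charpoly - Polynomial.X ^ Fintype.card m) = 0 :=
    isNilpotent_iff_eq_zero.1 (Matrix.isNilpotent_charpoly_sub_pow_of_isNilpotent
      ⟨2, by rw [pow_two]; simpa using h⟩)
  have h2 := congr_arg (Polynomial.eval 1) (sub_eq_zero.1 h1)
  rwa [Matrix.eval_charpoly, Polynomial.eval_pow, Polynomial.eval_X, one_pow, map_one,
    sub_neg_eq_add] at h2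

/-- Elimination over a division ring. -/
theorem units_induction {D : Type v} [DivisionRing D] {r : Type u} [Fintype r] [DecidableEq r]
    (C : Matrix r r D → Prop) (hmul : ∀ A B, C A → C B → C (A * B))
    (hdiag : ∀ d : r → D, (∀ i, d i ≠ 0) → C (Matrix.diagonal d))
    (hnil : ∀ X : Matrix r r D, X * X = 0 → C (1 + X))
    (M : Matrix r r D) (hM : IsUnit M) : C M := by
  have hone : C 1 := by simpa using hnil 0 (by simp)
  suffices key : ∀ S : Finset r, ∀ M : Matrix r r D, IsUnit M →
      (∀ i j, (i ∉ S ∨ j ∉ S) → M i j = (1 : Matrix r r D) i j) → C M from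
    key Finset.univ M hM (fun i j h => by simp at h)
  intro S
  induction S using Finset.induction with
  | empty =>
    intro M _ h
    rwa [show M = 1 from Matrix.ext fun i j => h i j (by simp)]
  | @insert j S hjS ih =>
    intro M hM h
    -- a unit `1 + X` may be split off
    have step : ∀ (M X : Matrix r r D), X * X = 0 → C ((1 + X) * M) → C M := fun M X hX hC => by
      have h1 : (1 - X) * ((1 + X) * M) = M := by
        rw [← mul_assoc, mul_add, mul_one, sub_mul, one_mul, hX, sub_zero, sub_add_cancel, one_mul]
      rw [← h1]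
      exact hmul _ _ (by rw [sub_eq_add_neg]; exact hnil _ (by simpa using hX)) hC
    have step' : ∀ (M X : Matrix r r D), X * X = 0 → C (M * (1 + X)) → C M := fun M X hX hC => by
      have h1 : M * (1 + X) * (1 - X) = M := by
        rw [mul_assoc, add_mul, one_mul, mul_sub, mul_one, hX, sub_zero, sub_add_cancel, mul_one]
      rw [← h1]
      exact hmul _ _ hC (by rw [sub_eq_add_neg]; exact hnil _ (by simpa using hX))
    have hunit : ∀ X : Matrix r r D, X * X = 0 → IsUnit (1 + X) := fun X hX =>
      ⟨⟨1 + X, 1 - X, by rw [add_mul, one_mul, mul_sub, mul_one, hX, sub_zero, sub_add_cancel],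
        by rw [mul_add, mul_one, sub_mul, one_mul, hX, sub_zero, sub_add_cancel]⟩, rfl⟩
    -- the pivot
    suffices main : ∀ M : Matrix r r D, IsUnit M →
        (∀ i l, (i ∉ insert j S ∨ l ∉ insert j S) → M i l = (1 : Matrix r r D) i l) →
        M j j ≠ 0 → C M by
      by_cases hjj : M j j = 0
      · obtain ⟨i, hi⟩ : ∃ i, M i j ≠ 0 := by
          by_contra hc
          push Not at hc
          obtain ⟨N, hN⟩ := hM.exists_left_inv
          have := congr_fun (congr_fun hN j) j
          rw [Matrix.mul_apply, Matrix.one_apply_eq] at this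
          simp [hc] at this
        have hij : i ≠ j := fun e => hi (e ▸ hjj)
        have hiS : i ∈ S := by
          by_contra hiS
          refine hi ?_
          rw [h i j (Or.inl (by simp [hij, hiS])), Matrix.one_apply_ne hij]
        have hX : (Matrix.single j i (1 : D)) * Matrix.single j i (1 : D) = 0 :=
          Matrix.single_mul_single_of_ne _ _ _ _ hij _
        refine step _ _ hX (main _ ((hunit _ hX).mul hM) (fun a l hal => ?_) ?_)
        · rw [add_mul, one_mul, Matrix.add_apply, h a l hal]
          rcases eq_or_ne a j with rfl | ha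
          · have hl : l ∉ insert a S := hal.resolve_left (by simp)
            rw [Matrix.single_mul_apply_same, one_mul, h i l (Or.inr hl),
              Matrix.one_apply_ne (fun e : i = l => hl (e ▸ Finset.mem_insert_of_mem hiS)),
              add_zero]
          · rw [Matrix.single_mul_apply_of_ne _ _ _ _ _ ha, add_zero]
        · rw [add_mul, one_mul, Matrix.add_apply, hjj, Matrix.single_mul_apply_same, one_mul,
            zero_add]
          exact hi
      · exact main M hM h hjj
    clear hM h M
    intro M hM h hjj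
    -- clear the column
    let X : Matrix r r D := Matrix.of fun a b =>
      if b = j ∧ a ≠ j then -(M a j * (M j j)⁻¹) else 0
    have hX : X * X = 0 := by
      ext a b
      rw [Matrix.mul_apply]
      refine Finset.sum_eq_zero fun c _ => ?_
      by_cases hc : c = j
      · simp [X, hc]
      · simp [X, hc]
    refine step _ X hX ?_
    set M₁ := (1 + X) * M with hM₁
    have hrow : ∀ a b, M₁ a b = M a b + (if a ≠ j then -(M a j * (M j j)⁻¹) * M j b else 0) := by
      intro a b
      rw [hM₁, add_mul, one_mul, Matrix.add_apply, Matrix.mul_apply]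
      congr 1
      rw [Finset.sum_eq_single j (fun c _ hc => by simp [X, hc]) (by simp)]
      by_cases ha : a = j <;> simp [X, ha]
    have hcol : ∀ a, a ≠ j → M₁ a j = 0 := fun a ha => by
      rw [hrow, if_pos ha, neg_mul, inv_mul_cancel_right₀ hjj, add_neg_cancel]
    have h₁ : ∀ a b, (a ∉ insert j S ∨ b ∉ insert j S) → M₁ a b = (1 : Matrix r r D) a b := by
      intro a b hab
      rw [hrow, h a b hab]
      split_ifs with ha
      · rcases hab with hab | hab
        · rw [h a j (Or.inl hab), Matrix.one_apply_ne ha]
          simp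
        · rw [h j b (Or.inr hab), Matrix.one_apply_ne
            (fun e : j = b => hab (e ▸ Finset.mem_insert_self j S))]
          simp
      · rw [add_zero]
    -- clear the row
    let Y : Matrix r r D := Matrix.of fun a b =>
      if a = j ∧ b ≠ j then -((M j j)⁻¹ * M₁ j b) else 0
    have hY : Y * Y = 0 := by
      ext a b
      rw [Matrix.mul_apply]
      refine Finset.sum_eq_zero fun c _ => ?_
      by_cases hc : c = j
      · simp [Y, hc]
      · simp [Y, hc]
    refine step' _ Y hY ?_
    set M₂ := M₁ * (1 + Y) with hM₂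
    have hentry : ∀ a b, M₂ a b =
        M₁ a b + (if b ≠ j then M₁ a j * -((M j j)⁻¹ * M₁ j b) else 0) := by
      intro a b
      rw [hM₂, mul_add, mul_one, Matrix.add_apply, Matrix.mul_apply]
      congr 1
      rw [Finset.sum_eq_single j (fun c _ hc => by simp [Y, hc]) (by simp)]
      by_cases hb : b = j <;> simp [Y, hb]
    have hjj₁ : M₁ j j = M j j := by rw [hrow, if_neg (by simp), add_zero]
    have hrow₂ : ∀ b, b ≠ j → M₂ j b = 0 := fun b hb => by
      rw [hentry, if_pos hb, hjj₁, mul_neg, mul_inv_cancel_left₀ hjj, add_neg_cancel]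
    have hcol₂ : ∀ a, a ≠ j → M₂ a j = 0 := fun a ha => by
      rw [hentry, if_neg (by simp), hcol a ha, add_zero]
    have hrest : ∀ a b, a ≠ j → M₂ a b = M₁ a b := fun a b ha => by
      rw [hentry, hcol a ha]
      simp
    have hjj₂ : M₂ j j = M j j := by rw [hentry, if_neg (by simp), add_zero, hjj₁]
    -- remove the pivot
    have hd : ∀ c : D, c ≠ 0 → ∀ i, (Function.update (1 : r → D) j c) i ≠ 0 := fun c hc i => by
      rcases eq_or_ne i j with rfl | hi
      · simpa using hc
      · simp [hi]
    have hdd : ∀ c c' : D, c * c' = 1 → Matrix.diagonal (Function.update (1 : r → D) j c) *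
        Matrix.diagonal (Function.update (1 : r → D) j c') = 1 := fun c c' hcc => by
      rw [Matrix.diagonal_mul_diagonal, ← Matrix.diagonal_one]
      congr 1
      funext i
      rcases eq_or_ne i j with rfl | hi
      · simpa using hcc
      · simp [hi]
    have hM₃ : C (Matrix.diagonal (Function.update (1 : r → D) j (M j j)⁻¹) * M₂) := by
      refine ih _ ((IsUnit.mul ⟨⟨_, _, hdd _ _ (inv_mul_cancel₀ hjj),
        hdd _ _ (mul_inv_cancel₀ hjj)⟩, rfl⟩ (((hunit X hX).mul hM).mul (hunit Y hY)))) ?_
      intro a b hab
      rw [Matrix.diagonal_mul]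
      rcases eq_or_ne a j with rfl | ha
      · rw [Function.update_self]
        rcases eq_or_ne b a with rfl | hb
        · rw [hjj₂, inv_mul_cancel₀ hjj, Matrix.one_apply_eq]
        · rw [hrow₂ b hb, mul_zero, Matrix.one_apply_ne hb.symm]
      · rw [Function.update_of_ne ha, Pi.one_apply, one_mul]
        rcases eq_or_ne b j with rfl | hb
        · rw [hcol₂ a ha, Matrix.one_apply_ne ha]
        · rw [hrest a b ha]
          exact h₁ a b (hab.imp (fun h' => by simp [ha, h']) (fun h' => by simp [hb, h']))
    have := hmul _ _ (hdiag _ (hd _ hjj)) hM₃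
    rwa [← mul_assoc, hdd _ _ (mul_inv_cancel₀ hjj), one_mul] at this

end GrothLib.RedNorm
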