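import Groth.Agent.Lib.CSA.Splitting
import Groth.Agent.Lib.RedNorm.Matrix
import Groth.Prelude.Def_GSzCSA
import Mathlib.LinearAlgebra.Charpoly.BaseChange
import Mathlib.LinearAlgebra.Charpoly.ToMatrix
import Mathlib.RingTheory.Norm.Basic
import Mathlib.RingTheory.Trace.Basic
import Mathlib.RingTheory.IntegralClosure.IntegrallyClosed
import Mathlib.RingTheory.Polynomial.UniqueFactorization
import Mathlib.RingTheory.Polynomial.IsIntegral

set_option autoImplicit false

/-!
# Representations computing reduced norms, traces and characteristic polynomials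
-/

universe u v w w'

open scoped TensorProduct
open Module

namespace GrothLib.RedNorm

variable {k : Type u} [Field k] {A : Type v} [Ring A] [Algebra k A] [Algebra.IsCentral k A]
  [IsSimpleRing A] [FiniteDimensional k A] {n : ℕ}

omit [Algebra.IsCentral k A] [IsSimpleRing A] in
theorem degree_pos [Nontrivial A] (hn : finrank k A = n ^ 2) : 0 < n :=
  Nat.pos_of_ne_zero fun h => by
    have := Module.finrank_pos (R := k) (M := A)
    simp [hn, h] at this

theorem exists_degree : ∃ n : ℕ, finrank k A = n ^ 2 := by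
  obtain ⟨n, hn⟩ := CSA.finrank_isSquare k A
  exact ⟨n, by rw [hn, sq]⟩

variable {L : Type w} [Field L] [Algebra k L]

theorem exists_rep [IsAlgClosed L] (hn : finrank k A = n ^ 2) :
    Nonempty (A →ₐ[k] Matrix (Fin n) (Fin n) L) := by
  obtain ⟨m, -, ⟨e⟩⟩ := CSA.splits_algClosed (A := A) (k := k) L
  have h1 := e.toLinearEquiv.finrank_eq
  rw [Module.finrank_baseChange, hn, Module.finrank_matrix, Fintype.card_fin, Module.finrank_self,
    mul_one, ← sq] at h1
  obtain rfl := Nat.pow_left_injective two_ne_zero h1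
  exact ⟨(e.toAlgHom.restrictScalars k).comp Algebra.TensorProduct.includeRight⟩

/-- The extension of a representation. -/
noncomputable def lift (hn : finrank k A = n ^ 2) (g : A →ₐ[k] Matrix (Fin n) (Fin n) L) :
    L ⊗[k] A ≃ₐ[L] Matrix (Fin n) (Fin n) L :=
  AlgEquiv.ofBijective
    (Algebra.TensorProduct.lift (Algebra.ofId L _) g fun c _ => Algebra.commutes c _) (by
      have := CSA.isSimpleRing_baseChange (k := k) (A := A) L
      have : Nonempty (Fin n) := ⟨⟨0, degree_pos hn⟩⟩
      let φ := Algebra.TensorProduct.lift (Algebra.ofId L _) g fun c _ => Algebra.commutes c _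
      have hinj : Function.Injective φ := φ.toRingHom.injective
      refine ⟨hinj, (LinearMap.injective_iff_surjective_of_finrank_eq_finrank ?_
        (f := φ.toLinearMap)).mp hinj⟩
      rw [Module.finrank_baseChange, hn, Module.finrank_matrix, Fintype.card_fin,
        Module.finrank_self, mul_one, sq])

@[simp]
theorem lift_one_tmul (hn : finrank k A = n ^ 2) (g : A →ₐ[k] Matrix (Fin n) (Fin n) L) (a : A) :
    lift hn g (1 ⊗ₜ[k] a) = g a := by
  simp [lift]

theorem charpoly_eq_of_reps (hn : finrank k A = n ^ 2) (g g' : A →ₐ[k] Matrix (Fin n) (Fin n) L)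
    (a : A) : (g a).charpoly = (g' a).charpoly := by
  have : Nonempty (Fin n) := ⟨⟨0, degree_pos hn⟩⟩
  obtain ⟨c, hc⟩ := CSA.skolem_noether (k := L) (A := Matrix (Fin n) (Fin n) L)
    (B := Matrix (Fin n) (Fin n) L) (((lift hn g').symm.trans (lift hn g)).toAlgHom) (AlgHom.id L _)
  have h := hc (g' a)
  have h2 : (lift hn g').symm (g' a) = 1 ⊗ₜ[k] a := by
    rw [AlgEquiv.symm_apply_eq, lift_one_tmul]
  change lift hn g ((lift hn g').symm (g' a)) = _ at h
  rw [h2, lift_one_tmul, AlgHom.id_apply] at h
  rw [h, Matrix.coe_units_inv, Matrix.charpoly_units_conj]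

theorem det_eq_of_reps (hn : finrank k A = n ^ 2) (g g' : A →ₐ[k] Matrix (Fin n) (Fin n) L)
    (a : A) : (g a).det = (g' a).det := by
  rw [Matrix.det_eq_sign_charpoly_coeff, Matrix.det_eq_sign_charpoly_coeff,
    charpoly_eq_of_reps hn g g' a]

theorem trace_eq_of_reps (hn : finrank k A = n ^ 2) (g g' : A →ₐ[k] Matrix (Fin n) (Fin n) L)
    (a : A) : (g a).trace = (g' a).trace := by
  have : Nonempty (Fin n) := ⟨⟨0, degree_pos hn⟩⟩
  rw [Matrix.trace_eq_neg_charpoly_coeff, Matrix.trace_eq_neg_charpoly_coeff,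
    charpoly_eq_of_reps hn g g' a]

theorem redNorm_eq [IsAlgClosed L] (hn : finrank k A = n ^ 2) {N : A →* k}
    (hN : CSAGal.IsRedNorm k A N) (g : A →ₐ[k] Matrix (Fin n) (Fin n) L) (a : A) :
    algebraMap k L (N a) = (g a).det := by
  obtain ⟨K, _, _, _, m, φ, hφ⟩ := hN
  have h1 := φ.toLinearEquiv.finrank_eq
  rw [Module.finrank_baseChange, hn, Module.finrank_matrix, Fintype.card_fin, Module.finrank_self,
    mul_one, ← sq] at h1
  obtain rfl := Nat.pow_left_injective two_ne_zero h1
  let i : K →ₐ[k] L := IsAlgClosed.lift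
  let g' : A →ₐ[k] Matrix (Fin n) (Fin n) L :=
    i.mapMatrix.comp ((φ.toAlgHom.restrictScalars k).comp Algebra.TensorProduct.includeRight)
  rw [det_eq_of_reps hn g g' a, ← i.commutes, hφ, AlgHom.map_det]
  rfl

theorem redTrace_eq [IsAlgClosed L] (hn : finrank k A = n ^ 2) {T : A →+ k}
    (hT : CSAGal.IsRedTrace k A T) (g : A →ₐ[k] Matrix (Fin n) (Fin n) L) (a : A) :
    algebraMap k L (T a) = (g a).trace := by
  obtain ⟨K, _, _, _, m, φ, hφ⟩ := hT
  have h1 := φ.toLinearEquiv.finrank_eq
  rw [Module.finrank_baseChange, hn, Module.finrank_matrix, Fintype.card_fin, Module.finrank_self,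
    mul_one, ← sq] at h1
  obtain rfl := Nat.pow_left_injective two_ne_zero h1
  let i : K →ₐ[k] L := IsAlgClosed.lift
  let g' : A →ₐ[k] Matrix (Fin n) (Fin n) L :=
    i.mapMatrix.comp ((φ.toAlgHom.restrictScalars k).comp Algebra.TensorProduct.includeRight)
  rw [trace_eq_of_reps hn g g' a, ← i.commutes, hφ, Matrix.trace, map_sum]
  rfl

theorem mulLeft_matrix_charpoly (M : Matrix (Fin n) (Fin n) L) :
    (LinearMap.mulLeft L M).charpoly = M.charpoly ^ n := by
  rw [← LinearMap.charpoly_toMatrix _ (Matrix.stdBasis L (Fin n) (Fin n))]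
  have h : LinearMap.toMatrix (Matrix.stdBasis L (Fin n) (Fin n))
      (Matrix.stdBasis L (Fin n) (Fin n)) (LinearMap.mulLeft L M) =
        Matrix.blockDiagonal fun _ : Fin n => M := by
    have hr : ∀ (X : Matrix (Fin n) (Fin n) L) (i j : Fin n),
        (Matrix.stdBasis L (Fin n) (Fin n)).repr X (i, j) = X i j := fun X i j => by
      simp [Matrix.stdBasis]
    ext ⟨i, j⟩ ⟨a, b⟩
    rw [LinearMap.toMatrix_apply, Matrix.stdBasis_eq_single, Matrix.blockDiagonal_apply,
      LinearMap.mulLeft_apply, hr]
    rcases eq_or_ne j b with rfl | hjb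
    · simp
    · simp [hjb]
  rw [h, charpoly_blockDiagonal, Finset.prod_const, Finset.card_univ, Fintype.card_fin]

theorem charpoly_mulLeft (hn : finrank k A = n ^ 2) (g : A →ₐ[k] Matrix (Fin n) (Fin n) L) (a : A) :
    (LinearMap.mulLeft k a).charpoly.map (algebraMap k L) = (g a).charpoly ^ n := by
  rw [← LinearMap.charpoly_baseChange, ← (lift hn g).toLinearEquiv.charpoly_conj,
    ← mulLeft_matrix_charpoly]
  congr 1
  refine LinearMap.ext fun M => ?_
  obtain ⟨t, rfl⟩ := (lift hn g).surjective M
  rw [LinearMap.mulLeft_apply, ← lift_one_tmul hn g a, ← map_mul]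
  change lift hn g (LinearMap.baseChange L (LinearMap.mulLeft k a)
    ((lift hn g).symm (lift hn g t))) = _
  rw [AlgEquiv.symm_apply_apply]
  congr 1
  induction t using TensorProduct.induction_on with
  | zero => rw [map_zero, mul_zero]
  | tmul c b => rw [LinearMap.baseChange_tmul, Algebra.TensorProduct.tmul_mul_tmul, one_mul]; rfl
  | add x y hx hy => rw [map_add, mul_add, hx, hy]

theorem smul_charpoly {K : Type w'} [Field K] [Algebra k K] [FiniteDimensional k K]
    {ιK : Type*} [Fintype ιK] [DecidableEq ιK] (b : Basis ιK k K)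
    (V : Type v) [AddCommGroup V] [Module k V] [Module K V] [IsScalarTower k K V]
    [FiniteDimensional K V] (x : K) :
    haveI : FiniteDimensional k V := Module.Finite.trans K V
    ((LinearMap.lsmul K V x).restrictScalars k).charpoly =
      (Algebra.leftMulMatrix b x).charpoly ^ finrank K V := by
  have : FiniteDimensional k V := Module.Finite.trans K V
  let c := finBasis K V
  rw [← LinearMap.charpoly_toMatrix _ (b.smulTower c)]
  have h : LinearMap.toMatrix (b.smulTower c) (b.smulTower c)
      ((LinearMap.lsmul K V x).restrictScalars k) =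
        Matrix.blockDiagonal fun _ => Algebra.leftMulMatrix b x := by
    ext ⟨i, j⟩ ⟨i', j'⟩
    rw [LinearMap.toMatrix_apply, Basis.smulTower_repr_mk, Basis.smulTower_apply,
      LinearMap.restrictScalars_apply, LinearMap.lsmul_apply, smul_smul, map_smul, Basis.repr_self,
      Matrix.blockDiagonal_apply]
    by_cases hj : j = j'
    · subst hj; simp [Algebra.leftMulMatrix_eq_repr_mul]
    · simp [hj]
  rw [h, charpoly_blockDiagonal, Finset.prod_const, Finset.card_univ, Fintype.card_fin]

/-- On a subfield of degree `n` the reduced characteristic polynomial is the usual one. -/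
theorem charpoly_of_subfield (hn : finrank k A = n ^ 2) (g : A →ₐ[k] Matrix (Fin n) (Fin n) L)
    {K : Type w'} [Field K] [Algebra k K] [FiniteDimensional k K] (ι : K →ₐ[k] A)
    (hK : finrank k K = n) (x : K) (b : Basis (Fin n) k K) :
    (g (ι x)).charpoly = ((Algebra.leftMulMatrix b x).charpoly).map (algebraMap k L) := by
  let : Module K A := Module.compHom A ι.toRingHom
  have hsmul : ∀ (c : K) (y : A), c • y = ι c * y := fun _ _ => rfl
  have : IsScalarTower k K A := ⟨fun r c y => by
    rw [hsmul, hsmul, map_smul, smul_mul_assoc]⟩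
  have : FiniteDimensional K A := Module.Finite.of_restrictScalars_finite k K A
  have hd : finrank K A = n := by
    have := Module.finrank_mul_finrank k K A
    rw [hK, hn, sq] at this
    exact Nat.eq_of_mul_eq_mul_left (hK ▸ Module.finrank_pos) this
  have h1 : (LinearMap.mulLeft k (ι x)).charpoly =
      (Algebra.leftMulMatrix b x).charpoly ^ n := by
    rw [← smul_charpoly b A x |>.trans (congrArg _ hd)]
    rfl
  have h2 := charpoly_mulLeft hn g (ι x)
  rw [h1, Polynomial.map_pow] at h2
  refine Polynomial.eq_of_monic_of_associated (Matrix.charpoly_monic _)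
    ((Matrix.charpoly_monic _).map _) (associated_of_dvd_dvd ?_ ?_)
  · exact (IsIntegrallyClosed.pow_dvd_pow_iff (degree_pos hn).ne').1 h2.symm.dvd
  · exact (IsIntegrallyClosed.pow_dvd_pow_iff (degree_pos hn).ne').1 h2.dvd

theorem det_of_subfield (hn : finrank k A = n ^ 2) (g : A →ₐ[k] Matrix (Fin n) (Fin n) L)
    {K : Type w'} [Field K] [Algebra k K] [FiniteDimensional k K] (ι : K →ₐ[k] A)
    (hK : finrank k K = n) (x : K) : (g (ι x)).det = algebraMap k L (Algebra.norm k x) := by
  let b := finBasisOfFinrankEq k K hK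
  rw [Algebra.norm_eq_matrix_det b, Matrix.det_eq_sign_charpoly_coeff,
    Matrix.det_eq_sign_charpoly_coeff, charpoly_of_subfield hn g ι hK x b, Polynomial.coeff_map]
  simp

theorem trace_of_subfield (hn : finrank k A = n ^ 2) (g : A →ₐ[k] Matrix (Fin n) (Fin n) L)
    {K : Type w'} [Field K] [Algebra k K] [FiniteDimensional k K] (ι : K →ₐ[k] A)
    (hK : finrank k K = n) (x : K) : (g (ι x)).trace = algebraMap k L (Algebra.trace k K x) := by
  have : Nonempty (Fin n) := ⟨⟨0, degree_pos hn⟩⟩
  let b := finBasisOfFinrankEq k K hK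
  rw [Algebra.trace_eq_matrix_trace b, Matrix.trace_eq_neg_charpoly_coeff,
    Matrix.trace_eq_neg_charpoly_coeff, charpoly_of_subfield hn g ι hK x b, Polynomial.coeff_map,
    map_neg]

end GrothLib.RedNorm
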