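import Groth.Agent.Lib.RedNorm.Basic
import Groth.Agent.Lib.CSA.SplittingExists

set_option autoImplicit false

/-!
# Reduced characteristic polynomials are rational
-/

universe u v w

open scoped TensorProduct
open Module

namespace GrothLib.RedNorm

variable {k : Type u} [Field k] {A : Type v} [Ring A] [Algebra k A] [Algebra.IsCentral k A]
  [IsSimpleRing A] [FiniteDimensional k A] {n : ℕ}

theorem exists_det_eq (hn : finrank k A = n ^ 2) {L : Type w} [Field L] [Algebra k L] [IsAlgClosed L]
    (g : A →ₐ[k] Matrix (Fin n) (Fin n) L) (a : A) : ∃ c : k, (g a).det = algebraMap k L c := by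
  obtain ⟨K, _, _, m, hm, ⟨e⟩⟩ := CSA.exists_galois_intermediate k A
  have h1 := e.toLinearEquiv.finrank_eq
  rw [Module.finrank_baseChange, hn, Module.finrank_matrix, Fintype.card_fin, Module.finrank_self,
    mul_one, ← sq] at h1
  obtain rfl := Nat.pow_left_injective two_ne_zero h1
  let g₀ : A →ₐ[k] Matrix (Fin n) (Fin n) K :=
    (e.toAlgHom.restrictScalars k).comp Algebra.TensorProduct.includeRight
  have hfix : ∀ σ : K ≃ₐ[k] K, σ (g₀ a).det = (g₀ a).det := fun σ => by
    calc σ (g₀ a).det = ((σ.toAlgHom.mapMatrix.comp g₀) a).det := σ.toAlgHom.map_det (g₀ a)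
      _ = _ := det_eq_of_reps hn _ g₀ a
  obtain ⟨c, hc⟩ := (IsGalois.mem_range_algebraMap_iff_fixed (F := k) (g₀ a).det).2 hfix
  refine ⟨c, ?_⟩
  let i : K →ₐ[k] L := IsAlgClosed.lift
  rw [det_eq_of_reps hn g (i.mapMatrix.comp g₀) a]
  calc _ = i (g₀ a).det := (i.map_det (g₀ a)).symm
    _ = _ := by rw [← hc, i.commutes]

end GrothLib.RedNorm
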